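import Groth.Agent.H25AbCube.PoincareRegular
import Groth.Agent.H25AbCube.EndAlgebra
import Groth.Agent.H25AbCube.AbImage
import Groth.Agent.H25AbCube.DetPower
import Groth.Agent.H25AbCube.FrobEnd
import Groth.Agent.H19Quot.AbelianCat
import Groth.Agent.H25TateConj.Isogeny
import Groth.Agent.H19Grp.AntiAffineGroup
import Groth.Prelude.Def_EndRing

/-!
# Kernels, retractions and quotients for homomorphisms of abelian varieties
-/

set_option autoImplicit false
set_option linter.style.haveILetI false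
set_option linter.unusedSectionVars false
set_option backward.isDefEq.respectTransparency false
set_option synthInstance.maxHeartbeats 400000
universe u

open CategoryTheory CategoryTheory.Limits MonoidalCategory CartesianMonoidalCategory MonObj GrpObj AlgebraicGeometry
open Groth.Agent Groth.Agent.H25AbCube Groth.Agent.H25AbCube.GeomTate

noncomputable section

namespace Groth.Agent.H25Cog

variable {k : Type u} [Field k] {X Y : Over (Spec (CommRingCat.of k))} [GrpObj X] [IsCommMonObj X] [IsProper X.hom]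
  [GeometricallyIntegral X.hom] [GrpObj Y] [IsCommMonObj Y] [IsProper Y.hom] [GeometricallyIntegral Y.hom]

/-- Homomorphisms killed by a positive integer are trivial. -/
theorem eq_one_of_pow_eq_one (f : X ⟶ Y) [IsMonHom f] {n : ℕ} (hn : 0 < n) (h : f ^ n = 1) : f = 1 :=
  congrArg Additive.toMul (eq_zero_of_smul_homs (Additive.ofMul f) (n : ℤ) (inferInstanceAs (IsMonHom f))
    (by exact_mod_cast hn.ne') (by rw [natCast_zsmul]; exact congrArg Additive.ofMul h))

/-- A homomorphism killing no nontrivial abelian subvariety is finite. -/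
theorem isFinite_of_no_abelian (φ : X ⟶ Y) [IsMonHom φ]
    (h : ∀ (Z : Over (Spec (CommRingCat.of k))) [GrpObj Z] [IsCommMonObj Z] [IsProper Z.hom] [GeometricallyIntegral Z.hom]
      (z : Z ⟶ X) [IsMonHom z] [IsClosedImmersion z.left], z ≫ φ = 1 → z = 1) : IsFinite φ.left := by
  let Ω := AlgebraicClosure k
  obtain ⟨N₀, gN, iN, hiN, hiNc, hker⟩ := H19Grp.AffineQuotient.exists_kernel φ
  haveI := hiN; haveI := hiNc
  haveI : IsProper N₀.hom := by rw [← Over.w iN]; infer_instance
  obtain ⟨C, gpC, _, _, c, Q, gQ, ρ, hc, hcc, hρ, hQf, hlift⟩ := exists_abelian_part N₀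
  haveI := hc; haveI := hcc; haveI := hρ; haveI := hQf
  haveI : IsClosedImmersion (c ≫ iN).left := by
    show IsClosedImmersion (c.left ≫ iN.left)
    infer_instance
  haveI : IsCommMonObj C := isCommMonObj_of_av
  haveI : Mono c := Over.mono_of_mono_left c
  haveI : Mono iN := Over.mono_of_mono_left iN
  have h1 : c ≫ iN = 1 := h C (c ≫ iN) (by
    rw [Category.assoc, H19Grp.kernel_comp_eq_one hker, MonObj.comp_one])
  haveI : Subsingleton (SGA7.pt Ω ⟶ C) := ⟨fun a b => (cancel_mono (c ≫ iN)).1 (by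
    rw [h1, MonObj.comp_one, MonObj.comp_one])⟩
  haveI : Finite (SGA7.pt Ω ⟶ Q) := finite_pt_hom Q
  let ρ' : (SGA7.pt Ω ⟶ N₀) →* (SGA7.pt Ω ⟶ Q) := MonoidHom.mk' (fun z => z ≫ ρ) fun a b => MonObj.mul_comp a b ρ
  haveI : Finite ↥ρ'.ker := by
    refine Finite.of_injective (fun z : ↥ρ'.ker => (hlift _ z.1 z.2).choose) fun a b h => Subtype.ext ?_
    rw [← (hlift _ a.1 a.2).choose_spec, ← (hlift _ b.1 b.2).choose_spec]
    exact congrArg (· ≫ c) h
  haveI : Finite ↥ρ'.range := Finite.of_injective _ Subtype.val_injective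
  haveI : Finite (SGA7.pt Ω ⟶ N₀) := Finite.of_subgroup_quotient ρ'.ker
  exact isFinite_of_finite_ker φ
    ((Set.finite_range (fun z : SGA7.pt Ω ⟶ N₀ => z ≫ iN)).subset fun x hx => H19Grp.kernel_lift hker x hx)

/-- A finite homomorphism has a retraction up to a positive integer. -/
theorem exists_retraction (i : X ⟶ Y) [IsMonHom i] [IsFinite i.left] :
    ∃ (v : Y ⟶ X) (_ : IsMonHom v) (N : ℕ), 0 < N ∧ i ≫ v = (𝟙 X) ^ N := by
  obtain ⟨C, _, j, hC, hCg, hj, hjc, hs, hf⟩ := exists_complement Y X i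
  haveI := hC; haveI := hCg; haveI := hj; haveI := hjc; haveI := hs; haveI := hf
  haveI : IsCommMonObj C := isCommMonObj_of_av
  haveI : IsProper (X ⊗ C).hom := by
    rw [Over.tensorObj_hom]
    haveI : IsProper (pullback.fst X.hom C.hom) := MorphismProperty.pullback_fst (P := @IsProper) _ _ inferInstance
    infer_instance
  haveI : GeometricallyIntegral (X ⊗ C).hom := H25Rig.geometricallyIntegral_tensor X C
  haveI : IsCommMonObj (X ⊗ C) := isCommMonObj_of_av
  let s : X ⊗ C ⟶ Y := (fst X C ≫ i) * (snd X C ≫ j)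
  haveI : IsMonHom s := by
    show IsMonHom ((fst X C ≫ i) * (snd X C ≫ j))
    rw [Hom.mul_def]; infer_instance
  obtain ⟨N, hN, τ, hτ, h1, -⟩ := exists_isogeny_inverse s
  haveI := hτ
  refine ⟨τ ≫ fst X C, inferInstance, N, hN, ?_⟩
  have e : lift (𝟙 X) 1 ≫ s = i := by
    show lift (𝟙 X) 1 ≫ ((fst X C ≫ i) * (snd X C ≫ j)) = i
    rw [MonObj.comp_mul, lift_fst_assoc, lift_snd_assoc, Category.id_comp, MonObj.one_comp, _root_.mul_one]
  rw [← Category.assoc, ← e, Category.assoc _ s τ, h1, MonObj.comp_pow, Category.comp_id, MonObj.pow_comp, lift_fst]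

/-- The quotient by a finite closed subgroup. -/
theorem exists_quotient {H : Over (Spec (CommRingCat.of k))} [GrpObj H] [IsFinite H.hom] (j : H ⟶ X) [IsMonHom j]
    [IsClosedImmersion j.left] :
    ∃ (Y : Over (Spec (CommRingCat.of k))) (_ : GrpObj Y) (_ : IsCommMonObj Y) (_ : IsProper Y.hom)
      (_ : GeometricallyIntegral Y.hom) (q : X ⟶ Y) (_ : IsMonHom q), Flat q.left ∧ Surjective q.left ∧
      QuasiCompact q.left ∧ AlgGrp.IsKernel j q := by
  haveI : IsIntegral X.left := GeometricallyIntegral.isIntegral_of_subsingleton X.hom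
  obtain ⟨Y, gY, q, hq, hYt, hYc, hqf, hqs, hqp, hker⟩ :=
    H19Quot.exists_quotientGroup j (H19Quot.AbelianCat.normal_of_comm j)
  haveI := hq; haveI := hYt; haveI := hYc; haveI := hqf; haveI := hqs; haveI := hqp
  haveI : IsSeparated Y.hom := H19Grp.AffineQuotient.isSeparated_of_grp Y
  haveI : IsProper Y.hom := by
    haveI : UniversallyClosed (q.left ≫ Y.hom) := by rw [Over.w q]; infer_instance
    haveI : UniversallyClosed Y.hom := UniversallyClosed.of_comp_surjective q.left Y.hom
    exact {}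
  haveI : IsProper q.left := by
    haveI : IsProper (q.left ≫ Y.hom) := by rw [Over.w q]; infer_instance
    exact IsProper.of_comp q.left Y.hom
  haveI : IsReduced Y.left := H13Desc.isReduced_of_flat_surjective q.left
  haveI : GeometricallyReduced (q.left ≫ Y.hom) := by rw [Over.w q]; infer_instance
  haveI : GeometricallyReduced Y.hom := H19Grp.geometricallyReduced_of_surjective q.left Y.hom
  haveI : ConnectedSpace ↥Y.left := q.left.surjective.connectedSpace q.left.continuous
  haveI : GeometricallyIntegral Y.hom := H25AbCube.geometricallyIntegral_of_connected Y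
  haveI : IsCommMonObj Y := isCommMonObj_of_av
  exact ⟨Y, gY, inferInstance, inferInstance, inferInstance, q, hq, inferInstance, inferInstance, inferInstance, hker⟩

/-- The kernel of a finite homomorphism is finite. -/
theorem isFinite_of_isKernel (f : X ⟶ Y) [IsFinite f.left] {K : Over (Spec (CommRingCat.of k))} [GrpObj K] (j : K ⟶ X)
    [IsClosedImmersion j.left] (hK : AlgGrp.IsKernel j f) : IsFinite K.hom := by
  haveI : Subsingleton (𝟙_ (Over (Spec (CommRingCat.of k)))).left := inferInstanceAs (Subsingleton (PrimeSpectrum k))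
  haveI : IsFinite (𝟙_ (Over (Spec (CommRingCat.of k)))).hom := inferInstanceAs (IsFinite (𝟙 _))
  haveI : IsClosedImmersion (η[Y]).left := isClosedImmersion_of_comp_eq_id _ _ (Over.w η[Y])
  have h : j ≫ f = toUnit K ≫ η[Y] := by rw [H19Grp.kernel_comp_eq_one hK, Hom.one_def]
  have h2 : IsFinite ((toUnit K).left ≫ (η[Y]).left) := by
    rw [← Over.comp_left, ← h, Over.comp_left]
    infer_instance
  haveI := h2
  haveI : IsFinite (toUnit K).left := IsFinite.of_comp (toUnit K).left (η[Y]).left
  rw [← Over.w (toUnit K)]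
  infer_instance

/-- Powers with their inclusions. -/
theorem exists_power' (A : Over (Spec (CommRingCat.of k))) [GrpObj A] [IsCommMonObj A] [IsProper A.hom]
    [GeometricallyIntegral A.hom] (n : ℕ) :
    ∃ (Y : Over (Spec (CommRingCat.of k))) (_ : GrpObj Y) (_ : IsCommMonObj Y) (_ : IsProper Y.hom)
      (_ : GeometricallyIntegral Y.hom) (pr : Fin n → EndAV.Hom Y A) (inc : Fin n → EndAV.Hom A Y),
      (∑ i, pr i ≫ inc i = 𝟙 _) ∧ (∀ i j, inc i ≫ pr j = if i = j then 𝟙 _ else 0) ∧
      (∀ {T : Over (Spec (CommRingCat.of k))} (a b : T ⟶ Y),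
        (∀ i, a ≫ (pr i).toHom = b ≫ (pr i).toHom) → a = b) := by
  classical
  haveI : IsIntegral A.left := GeometricallyIntegral.isIntegral_of_subsingleton A.hom
  obtain ⟨g, hg⟩ := H25Grp.exists_nat_dim A.hom
  obtain ⟨Y, gY, pY, iY, π, hc, hπ, -, huniv⟩ := exists_power A hg n
  haveI := hc
  haveI := hπ
  have hext : ∀ {T : Over (Spec (CommRingCat.of k))} (a b : T ⟶ Y), (∀ i, a ≫ π i = b ≫ π i) → a = b :=
    fun {T} a b h => (huniv fun i => b ≫ π i).unique h fun i => rfl
  let f : Fin n → Fin n → (A ⟶ A) := fun i j => if i = j then 𝟙 A else 1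
  choose inc hinc using fun i => (huniv (f i)).exists
  haveI : ∀ i, IsMonHom (inc i) := fun i => H25Rig.isMonHom_of_one_hom _ (hext _ _ fun j => by
    rw [Category.assoc, hinc i j, IsMonHom.one_hom (π j)]
    show η[A] ≫ (if i = j then 𝟙 A else 1) = η[A]
    split_ifs
    · rw [Category.comp_id]
    · rw [MonObj.comp_one, Hom.one_def, toUnit_unit, Category.id_comp])
  have h2 : ∀ i j, EndAV.Hom.of (inc i) ≫ EndAV.Hom.of (π j) = if i = j then 𝟙 _ else (0 : EndAV.Hom A A) := by
    intro i j
    refine EndAV.Hom.ext ((hinc i j).trans ?_)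
    show (if i = j then 𝟙 A else 1) = _
    split_ifs <;> rfl
  refine ⟨Y, gY, inferInstance, inferInstance, inferInstance, fun i => EndAV.Hom.of (π i),
    fun i => EndAV.Hom.of (inc i), ?_, h2, fun a b h => hext a b h⟩
  refine EndAV.Hom.ext (hext _ _ fun j => ?_)
  show EndAV.Hom.toHom ((∑ i, EndAV.Hom.of (π i) ≫ EndAV.Hom.of (inc i)) ≫ EndAV.Hom.of (π j)) = 𝟙 Y ≫ π j
  rw [Preadditive.sum_comp, Category.id_comp]
  refine congrArg EndAV.Hom.toHom (?_ : _ = EndAV.Hom.of (π j))
  rw [Finset.sum_eq_single j (fun i _ hij => by rw [Category.assoc, h2, if_neg hij, comp_zero])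
    (fun h => absurd (Finset.mem_univ j) h), Category.assoc, h2, if_pos rfl, Category.comp_id]

/-- Evaluations of polynomials at commuting endomorphisms commute. -/
theorem eval_comm (φ : EndAV.Hom X Y) (πX : EndAV.End X) (πY : EndAV.End Y)
    (h : πX.toHom ≫ φ.toHom = φ.toHom ≫ πY.toHom) (P : Polynomial ℤ) :
    (Polynomial.eval₂ (Int.castRingHom (EndAV.End X)) πX P).toHom ≫ φ.toHom =
      φ.toHom ≫ (Polynomial.eval₂ (Int.castRingHom (EndAV.End Y)) πY P).toHom := by
  induction P using Polynomial.induction_on' with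
  | add p q hp hq =>
    rw [Polynomial.eval₂_add, Polynomial.eval₂_add, EndAV.End.toHom_add, EndAV.End.toHom_add, MonObj.mul_comp,
      MonObj.comp_mul, hp, hq]
  | monomial n a =>
    have hn : (πX ^ n).toHom ≫ φ.toHom = φ.toHom ≫ (πY ^ n).toHom := by
      induction n with
      | zero => rw [pow_zero, pow_zero, EndAV.End.toHom_one, EndAV.End.toHom_one, Category.id_comp, Category.comp_id]
      | succ n ih => rw [EndAV.End.toHom_pow_succ, EndAV.End.toHom_pow_succ, Category.assoc, h, ← Category.assoc, ih,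
          Category.assoc]
    rw [Polynomial.eval₂_monomial, Polynomial.eval₂_monomial, eq_intCast, eq_intCast, ← zsmul_eq_mul, ← zsmul_eq_mul,
      EndAV.End.toHom_zsmul, EndAV.End.toHom_zsmul, GrpObj.zpow_comp, GrpObj.comp_zpow, hn]

/-- Homomorphisms of abelian varieties into finite group schemes are trivial. -/
theorem eq_one_of_finite {Q : Over (Spec (CommRingCat.of k))} [GrpObj Q] [IsFinite Q.hom] (f : X ⟶ Q)
    (hf : η[X] ≫ f = η[Q]) : f = 1 := by
  haveI : IsAffine Q.left := isAffine_of_isAffineHom Q.hom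
  haveI : IsIso X.hom.appTop :=
    (ConcreteCategory.isIso_iff_bijective _).2 (H25Rig.bijective_appTop (k := k) X.hom)
  exact H19Grp.AntiAffineGroup.eq_one_of_isAffine f hf

/-- Passing an annihilating polynomial to a subvariety. -/
theorem eval_eq_zero_of_mono (φ : EndAV.Hom X Y) [Mono φ.toHom] (πX : EndAV.End X) (πY : EndAV.End Y)
    (h : πX.toHom ≫ φ.toHom = φ.toHom ≫ πY.toHom) (P : Polynomial ℤ)
    (hP : Polynomial.eval₂ (Int.castRingHom (EndAV.End Y)) πY P = 0) :
    Polynomial.eval₂ (Int.castRingHom (EndAV.End X)) πX P = 0 := by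
  refine EndAV.End.ext ((cancel_mono φ.toHom).1 ?_)
  rw [eval_comm φ πX πY h, hP, EndAV.End.toHom_zero, EndAV.End.toHom_zero, MonObj.comp_one, MonObj.one_comp]

/-- Passing an annihilating polynomial to a quotient. -/
theorem eval_eq_zero_of_epi (φ : EndAV.Hom X Y) [Epi φ.toHom] (πX : EndAV.End X) (πY : EndAV.End Y)
    (h : πX.toHom ≫ φ.toHom = φ.toHom ≫ πY.toHom) (P : Polynomial ℤ)
    (hP : Polynomial.eval₂ (Int.castRingHom (EndAV.End X)) πX P = 0) :
    Polynomial.eval₂ (Int.castRingHom (EndAV.End Y)) πY P = 0 := by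
  refine EndAV.End.ext ((cancel_epi φ.toHom).1 ?_)
  rw [← eval_comm φ πX πY h, hP, EndAV.End.toHom_zero, EndAV.End.toHom_zero, MonObj.comp_one, MonObj.one_comp]

end Groth.Agent.H25Cog
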